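import Mathlib.RingTheory.AdjoinRoot
import Mathlib.RingTheory.AlgebraTower
import Mathlib.RingTheory.Polynomial.Vieta
import Mathlib.RingTheory.MvPolynomial.Symmetric.Defs
import Mathlib.Data.Fintype.Pi
import Mathlib.Tactic

/-!
# The staircase basis of the universal splitting algebra
-/

set_option autoImplicit false
universe u
open Polynomial

namespace Groth.Agent.SymBasisLib

/-- Exponent vectors of the staircase monomials. -/
abbrev Stair (n : ℕ) : Type := Π i : Fin n, Fin (n - (i : ℕ))

/-- `Stair (n+1) ≃ Fin (n+1) × Stair n`. -/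
def stairSucc (n : ℕ) : Stair (n + 1) ≃ Fin (n + 1) × Stair n where
  toFun d := (Fin.cast (by simp) (d 0), fun i => Fin.cast (by simp) (d i.succ))
  invFun x := Fin.cases (motive := fun i : Fin (n + 1) => Fin (n + 1 - (i : ℕ))) (Fin.cast (by simp) x.1) (fun i => Fin.cast (by simp) (x.2 i))
  left_inv d := by
    funext i
    induction i using Fin.cases with
    | zero => rfl
    | succ i => rfl
  right_inv x := rfl

theorem exists_splitting (n : ℕ) : ∀ (R : Type u) [CommRing R] [Nontrivial R] (f : R[X]), f.Monic →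
    f.natDegree = n →
    ∃ (A : Type u) (_ : CommRing A) (_ : Algebra R A) (t : Fin n → A)
      (b : Module.Basis (Stair n) R A), (∀ d, b d = ∏ i, t i ^ (d i : ℕ)) ∧
      (∏ j, (X - C (t j))) = f.map (algebraMap R A) ∧
      ∀ (B : Type u) [CommRing B] [Algebra R B] (s : Fin n → B),
        (∏ j, (X - C (s j))) = f.map (algebraMap R B) → ∃ φ : A →ₐ[R] B, ∀ j, φ (t j) = s j := by
  induction n with
  | zero =>
    intro R _ _ f hf hn
    refine ⟨R, inferInstance, inferInstance, fun i => i.elim0, Module.Basis.singleton (Stair 0) R, ?_, ?_, ?_⟩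
    · intro d; simp
    · simp [hf.natDegree_eq_zero.1 hn]
    · intro B _ _ s _; exact ⟨Algebra.ofId R B, fun j => j.elim0⟩
  | succ n ih =>
    intro R _ _ f hf hn
    let R' := AdjoinRoot f
    haveI : Nontrivial R' :=
      ⟨⟨(AdjoinRoot.powerBasis' hf).basis ⟨0, by show 0 < f.natDegree; omega⟩, 0, Module.Basis.ne_zero _ _⟩⟩
    let g : R'[X] := f.map (algebraMap R R') /ₘ (X - C (AdjoinRoot.root f))
    have hroot : (f.map (algebraMap R R')).IsRoot (AdjoinRoot.root f) := AdjoinRoot.isRoot_root f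
    have hfg : (X - C (AdjoinRoot.root f)) * g = f.map (algebraMap R R') := mul_divByMonic_eq_iff_isRoot.2 hroot
    have hgm : g.Monic := by
      refine (monic_X_sub_C (AdjoinRoot.root f)).of_mul_monic_left ?_
      rw [hfg]; exact hf.map _
    have hgn : g.natDegree = n := by
      show (f.map (algebraMap R R') /ₘ _).natDegree = n
      rw [natDegree_divByMonic _ (monic_X_sub_C _), natDegree_X_sub_C, hf.natDegree_map, hn]
      omega
    obtain ⟨A, _, _, t', b', hb', hprod, hlift⟩ := ih R' g hgm hgn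
    letI : Algebra R A := Algebra.compHom A (algebraMap R R')
    haveI : IsScalarTower R R' A := IsScalarTower.of_algebraMap_eq fun _ => rfl
    let t : Fin (n + 1) → A := Fin.cons (algebraMap R' A (AdjoinRoot.root f)) t'
    let c : Module.Basis (Fin (n + 1)) R R' :=
      (AdjoinRoot.powerBasis' hf).basis.reindex (finCongr (show f.natDegree = n + 1 from hn))
    refine ⟨A, inferInstance, inferInstance, t, (c.smulTower b').reindex (stairSucc n).symm, ?_, ?_, ?_⟩
    · intro d
      rw [Module.Basis.reindex_apply, Equiv.symm_symm, Module.Basis.smulTower_apply, hb', Fin.prod_univ_succ,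
        Algebra.smul_def]
      simp only [c, Module.Basis.reindex_apply, PowerBasis.coe_basis, AdjoinRoot.powerBasis'_gen, map_pow,
        stairSucc, Equiv.coe_fn_mk, t, Fin.cons_zero, Fin.cons_succ, finCongr_symm, finCongr_apply, Fin.val_cast]
    · rw [Fin.prod_univ_succ]
      simp only [t, Fin.cons_zero, Fin.cons_succ]
      rw [hprod, IsScalarTower.algebraMap_eq R R' A, ← Polynomial.map_map, ← hfg, Polynomial.map_mul,
        Polynomial.map_sub, map_X, map_C]
    · intro B _ _ s hs
      rw [Fin.prod_univ_succ] at hs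
      have h0 : aeval (s 0) f = 0 := by
        rw [← eval_map_algebraMap, ← hs]; simp
      let φ₀ : R' →ₐ[R] B := AdjoinRoot.liftAlgHom f (Algebra.ofId R B) (s 0) h0
      letI : Algebra R' B := φ₀.toRingHom.toAlgebra
      have hr : algebraMap R' B (AdjoinRoot.root f) = s 0 := AdjoinRoot.liftAlgHom_root ..
      have hs' : ∏ j : Fin n, (X - C (s j.succ)) = g.map (algebraMap R' B) := by
        refine (monic_X_sub_C (s 0)).isRegular.left ?_
        show (X - C (s 0)) * _ = (X - C (s 0)) * _
        rw [hs]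
        conv_rhs => rw [← hr, ← map_X (algebraMap R' B), ← map_C, ← Polynomial.map_sub, ← Polynomial.map_mul, hfg,
          Polynomial.map_map]
        rw [show (algebraMap R' B).comp (algebraMap R R') = algebraMap R B from φ₀.comp_algebraMap]
      obtain ⟨φ, hφ⟩ := hlift B (fun j : Fin n => s j.succ) hs'
      haveI : IsScalarTower R R' B := IsScalarTower.of_algebraMap_eq fun r => (φ₀.commutes r).symm
      refine ⟨φ.restrictScalars R, fun j => ?_⟩
      induction j using Fin.cases with
      | zero => simp only [t, Fin.cons_zero, AlgHom.restrictScalars_apply, φ.commutes, hr]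
      | succ j => simp only [t, Fin.cons_succ, AlgHom.restrictScalars_apply, hφ j]

/-- The polynomial with prescribed elementary symmetric functions of the roots. -/
noncomputable def polyOf {R : Type u} [CommRing R] {n : ℕ} (a : Fin n → R) : R[X] :=
  ∑ j ∈ Finset.range (n + 1),
    (-1) ^ j * (C (if h : 0 < j ∧ j ≤ n then a ⟨j - 1, by omega⟩ else 1) * X ^ (n - j))

theorem polyOf_monic {R : Type u} [CommRing R] [Nontrivial R] {n : ℕ} (a : Fin n → R) :
    (polyOf a).Monic ∧ (polyOf a).natDegree = n := by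
  have hc : (polyOf a).coeff n = 1 := by
    simp only [polyOf, finsetSum_coeff]
    rw [Finset.sum_eq_single 0]
    · simp
    · intro j hj hj0
      rw [Finset.mem_range] at hj
      rw [← C_1, ← C_neg, ← C_pow, coeff_C_mul, coeff_C_mul, coeff_X_pow, if_neg (by omega), mul_zero, mul_zero]
    · simp
  have hd : (polyOf a).natDegree ≤ n := by
    refine (natDegree_sum_le _ _).trans (Finset.fold_max_le _ |>.2 ⟨Nat.zero_le _, fun j _ => ?_⟩)
    simp only [Function.comp_apply]
    rw [← C_1, ← C_neg, ← C_pow, ← mul_assoc, ← C_mul]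
    exact (natDegree_C_mul_X_pow_le _ _).trans (Nat.sub_le _ _)
  refine ⟨monic_of_natDegree_le_of_coeff_eq_one n hd hc, le_antisymm hd (le_natDegree_of_ne_zero ?_)⟩
  rw [hc]; exact one_ne_zero

theorem prod_eq_polyOf_iff {R : Type u} [CommRing R] {A : Type u} [CommRing A] [Algebra R A] {n : ℕ}
    (a : Fin n → R) (t : Fin n → A) :
    (∏ j, (X - C (t j))) = (polyOf a).map (algebraMap R A) ↔
      ∀ i : Fin n, MvPolynomial.aeval t (MvPolynomial.esymm (Fin n) R ((i : ℕ) + 1)) = algebraMap R A (a i) := by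
  set s := (Finset.univ : Finset (Fin n)).val.map t with hs
  have hcard : Multiset.card s = n := by simp [hs]
  have hprod : (∏ j, (X - C (t j))) = ∑ j ∈ Finset.range (n + 1), (-1) ^ j * (C (s.esymm j) * X ^ (n - j)) := by
    have := Multiset.prod_X_sub_X_eq_sum_esymm s
    rw [hcard, hs, Multiset.map_map] at this
    exact this
  rw [hprod, polyOf, Polynomial.map_sum]
  simp only [Polynomial.map_mul, Polynomial.map_pow, Polynomial.map_neg, Polynomial.map_one, map_C, map_X,
    MvPolynomial.aeval_esymm_eq_multiset_esymm]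
  constructor
  · intro h i
    have := congrArg (fun G => Polynomial.coeff G (n - ((i : ℕ) + 1))) h
    simp only [finsetSum_coeff] at this
    rw [Finset.sum_eq_single ((i : ℕ) + 1), Finset.sum_eq_single ((i : ℕ) + 1)] at this
    · rw [← C_1, ← C_neg, ← C_pow, coeff_C_mul, coeff_C_mul, coeff_C_mul, coeff_C_mul, coeff_X_pow, if_pos rfl,
        mul_one, mul_one, dif_pos ⟨by omega, by omega⟩] at this
      exact (((IsUnit.neg isUnit_one).pow _).mul_right_inj).1 this
    all_goals first
      | (intro hh; exact absurd (Finset.mem_range.2 (by omega)) hh)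
      | (intro j hj hne
         rw [Finset.mem_range] at hj
         rw [← C_1, ← C_neg, ← C_pow, coeff_C_mul, coeff_C_mul, coeff_X_pow, if_neg (by omega), mul_zero, mul_zero])
  · intro h
    refine Finset.sum_congr rfl fun j hj => ?_
    rw [Finset.mem_range] at hj
    rcases Nat.eq_zero_or_pos j with rfl | hj0
    · simp [Multiset.esymm]
    · have hh := h ⟨j - 1, by omega⟩
      simp only [Nat.sub_add_cancel hj0] at hh
      rw [dif_pos ⟨hj0, by omega⟩, hh]

/-- Symmetric relations ideal. -/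
noncomputable def relIdeal {R : Type u} [CommRing R] {n : ℕ} (a : Fin n → R) : Ideal (MvPolynomial (Fin n) R) :=
  Ideal.span (Set.range fun i : Fin n => MvPolynomial.esymm (Fin n) R ((i : ℕ) + 1) - MvPolynomial.C (a i))

theorem exists_quotient_basis {R : Type u} [CommRing R] [Nontrivial R] {n : ℕ} (a : Fin n → R) :
    ∃ (A : Type u) (_ : CommRing A) (_ : Algebra R A) (ψ : MvPolynomial (Fin n) R →ₐ[R] A)
      (b : Module.Basis (Stair n) R A), Function.Surjective ψ ∧ RingHom.ker ψ = relIdeal a ∧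
      ∀ d, ψ (∏ i, MvPolynomial.X i ^ (d i : ℕ)) = b d := by
  obtain ⟨hm, hdeg⟩ := polyOf_monic a
  obtain ⟨A, _, _, t, b, hb, hprod, hlift⟩ := exists_splitting n R (polyOf a) hm hdeg
  let ψ : MvPolynomial (Fin n) R →ₐ[R] A := MvPolynomial.aeval t
  have hψb : ∀ d, ψ (∏ i, MvPolynomial.X i ^ (d i : ℕ)) = b d := fun d => by simp [ψ, hb]
  have hI : relIdeal a ≤ RingHom.ker ψ := by
    rw [relIdeal, Ideal.span_le]
    rintro _ ⟨i, rfl⟩
    simp only [SetLike.mem_coe, RingHom.mem_ker, ψ, map_sub, MvPolynomial.aeval_C]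
    rw [(prod_eq_polyOf_iff a t).1 hprod i, sub_self]
  have hsurj : Function.Surjective ψ := by
    rw [← AlgHom.range_eq_top, ← Algebra.toSubmodule_eq_top, eq_top_iff, ← b.span_eq, Submodule.span_le]
    rintro _ ⟨d, rfl⟩
    exact ⟨_, hψb d⟩
  refine ⟨A, inferInstance, inferInstance, ψ, b, hsurj, le_antisymm ?_ hI, hψb⟩
  have hroots : (∏ j, (X - C (Ideal.Quotient.mk (relIdeal a) (MvPolynomial.X j)))) =
      (polyOf a).map (algebraMap R (MvPolynomial (Fin n) R ⧸ relIdeal a)) := by
    refine (prod_eq_polyOf_iff a _).2 fun i => ?_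
    have h3 : (MvPolynomial.aeval (R := R) fun j => Ideal.Quotient.mk (relIdeal a) (MvPolynomial.X j)) =
        Ideal.Quotient.mkₐ R (relIdeal a) := MvPolynomial.algHom_ext fun j => by simp
    rw [h3, Ideal.Quotient.mkₐ_eq_mk, ← Ideal.Quotient.mk_algebraMap, Ideal.Quotient.eq,
      MvPolynomial.algebraMap_eq]
    exact Ideal.subset_span ⟨i, rfl⟩
  obtain ⟨φ, hφ⟩ := hlift _ _ hroots
  have hcomp : φ.comp ψ = Ideal.Quotient.mkₐ R (relIdeal a) :=
    MvPolynomial.algHom_ext fun j => by simp [ψ, hφ]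
  intro x hx
  have h2 := AlgHom.congr_fun hcomp x
  rw [AlgHom.comp_apply, show ψ x = 0 from hx, map_zero] at h2
  exact Ideal.Quotient.eq_zero_iff_mem.1 h2.symm

theorem mem_map_iff {R A : Type u} [CommRing R] [CommRing A] [Algebra R A] {ι : Type*} [Fintype ι]
    (b : Module.Basis ι R A) (J : Ideal R) (z : A) :
    z ∈ J.map (algebraMap R A) ↔ ∀ d, b.repr z d ∈ J := by
  constructor
  · intro hz
    rw [← Submodule.restrictScalars_mem R, ← Ideal.smul_top_eq_map] at hz
    refine Submodule.smul_induction_on hz (fun r hr x _ => ?_) (fun x y hx hy => ?_)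
    · intro d; rw [map_smul]; exact J.mul_mem_right _ hr
    · intro d; rw [map_add]; exact add_mem (hx d) (hy d)
  · intro h
    rw [← b.sum_repr z]
    refine sum_mem fun d _ => ?_
    rw [Algebra.smul_def]
    exact Ideal.mul_mem_right _ _ (Ideal.mem_map_of_mem _ (h d))

theorem map_mem_iff {R : Type u} [CommRing R] {n : ℕ} {a : Fin n → R} {A : Type u} [CommRing A] [Algebra R A]
    (ψ : MvPolynomial (Fin n) R →ₐ[R] A) (hψ : Function.Surjective ψ) (hker : RingHom.ker ψ = relIdeal a)
    (J : Ideal R) (x : MvPolynomial (Fin n) R) :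
    x ∈ relIdeal a ⊔ J.map MvPolynomial.C ↔ ψ x ∈ J.map (algebraMap R A) := by
  have h1 : (J.map MvPolynomial.C).map ψ = J.map (algebraMap R A) := by
    show (J.map MvPolynomial.C).map ψ.toRingHom = _
    rw [Ideal.map_map, ← MvPolynomial.algebraMap_eq, AlgHom.toRingHom_eq_coe, ψ.comp_algebraMap]
  rw [← h1, ← hker, sup_comm]
  rw [← Ideal.mem_comap, Ideal.comap_map_of_surjective ψ hψ]
  rfl

theorem sum_staircase_sub_mem_iff {R : Type u} [CommRing R] {n : ℕ} (a : Fin n → R) (J : Ideal R)
    (α β : Stair n → R) :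
    (∑ d, MvPolynomial.C (α d) * ∏ i, MvPolynomial.X i ^ ((d i : ℕ))) -
        (∑ d, MvPolynomial.C (β d) * ∏ i, MvPolynomial.X i ^ ((d i : ℕ)))
      ∈ relIdeal a ⊔ J.map MvPolynomial.C ↔ ∀ d, α d - β d ∈ J := by
  rcases subsingleton_or_nontrivial R with hR | hR
  · exact iff_of_true (by convert Submodule.zero_mem _; exact Subsingleton.elim _ _)
      (fun d => by convert zero_mem J)
  obtain ⟨A, _, _, ψ, b, hψ, hker, hb⟩ := exists_quotient_basis a
  rw [map_mem_iff ψ hψ hker, mem_map_iff b, ← Finset.sum_sub_distrib, map_sum]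
  simp only [← sub_mul, ← map_sub (MvPolynomial.C (R := R) (σ := Fin n)), map_mul, MvPolynomial.algHom_C, hb,
    ← Algebra.smul_def, b.repr_sum_self]

theorem mem_sup_iff {R : Type u} [CommRing R] {n : ℕ} (a : Fin n → R) (J : Ideal R)
    (x : MvPolynomial (Fin n) R) :
    x ∈ relIdeal a ⊔ J.map MvPolynomial.C ↔ ∃ j : Stair n → R, (∀ d, j d ∈ J) ∧
      x - (∑ d, MvPolynomial.C (j d) * ∏ i, MvPolynomial.X i ^ ((d i : ℕ))) ∈ relIdeal a := by
  constructor
  · intro hx
    rcases subsingleton_or_nontrivial R with hR | hR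
    · exact ⟨0, fun d => zero_mem _, by convert zero_mem (relIdeal a); exact Subsingleton.elim _ _⟩
    obtain ⟨A, _, _, ψ, b, hψ, hker, hb⟩ := exists_quotient_basis a
    rw [map_mem_iff ψ hψ hker, mem_map_iff b] at hx
    refine ⟨fun d => b.repr (ψ x) d, hx, ?_⟩
    rw [← hker, RingHom.mem_ker, map_sub, map_sum]
    simp only [map_mul, MvPolynomial.algHom_C, hb, ← Algebra.smul_def, b.sum_repr, sub_self]
  · rintro ⟨j, hj, hx⟩
    have h2 : (∑ d, MvPolynomial.C (j d) * ∏ i, MvPolynomial.X i ^ ((d i : ℕ))) ∈ J.map MvPolynomial.C :=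
      sum_mem fun d _ => Ideal.mul_mem_right _ _ (Ideal.mem_map_of_mem _ (hj d))
    convert add_mem (Submodule.mem_sup_left hx) (Submodule.mem_sup_right h2) using 1
    rw [sub_add_cancel]

theorem bijective_int (n : ℕ) :
    Function.Bijective (fun p : Stair n → MvPolynomial (Fin n) ℤ =>
      ∑ d, (MvPolynomial.aeval (fun i : Fin n => MvPolynomial.esymm (Fin n) ℤ ((i : ℕ) + 1))) (p d) *
          ∏ i : Fin n, MvPolynomial.X i ^ ((d i : ℕ))) := by
  let R := MvPolynomial (Fin n) ℤ
  let a : Fin n → R := MvPolynomial.X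
  let e : R →+* MvPolynomial (Fin n) ℤ :=
    (MvPolynomial.aeval (fun i : Fin n => MvPolynomial.esymm (Fin n) ℤ ((i : ℕ) + 1))).toRingHom
  obtain ⟨A, _, _, ψ, b, hψ, hker, hb⟩ := exists_quotient_basis a
  -- `θ : R[t] → ℤ[t]`
  let θ : MvPolynomial (Fin n) R →+* MvPolynomial (Fin n) ℤ := MvPolynomial.eval₂Hom e MvPolynomial.X
  let σ : MvPolynomial (Fin n) ℤ →+* A := MvPolynomial.eval₂Hom (Int.castRingHom A) (fun i => ψ (MvPolynomial.X i))
  have hθI : relIdeal a ≤ RingHom.ker θ := by
    rw [relIdeal, Ideal.span_le]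
    rintro _ ⟨i, rfl⟩
    have h1 : θ (MvPolynomial.esymm (Fin n) R ((i : ℕ) + 1)) = MvPolynomial.esymm (Fin n) ℤ ((i : ℕ) + 1) := by
      simp [θ, MvPolynomial.esymm, map_sum, map_prod]
    simp only [SetLike.mem_coe, RingHom.mem_ker, map_sub, h1]
    rw [show θ (MvPolynomial.C (a i)) = MvPolynomial.esymm (Fin n) ℤ ((i : ℕ) + 1) from
      (MvPolynomial.eval₂Hom_C e MvPolynomial.X (a i)).trans (MvPolynomial.aeval_X _ i), sub_self]
  let φ : A →+* MvPolynomial (Fin n) ℤ := RingHom.liftOfSurjective (ψ : _ →+* A) hψ ⟨θ, by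
    have : RingHom.ker (ψ : MvPolynomial (Fin n) R →+* A) = relIdeal a := hker
    rw [this]; exact hθI⟩
  have hφψ : ∀ x, φ (ψ x) = θ x := RingHom.liftOfRightInverse_comp_apply _ _ _ _
  have hσe : σ.comp e = algebraMap R A := by
    refine MvPolynomial.ringHom_ext (fun r => by simp) fun i => ?_
    have h2 : algebraMap R A (a i) = ψ (MvPolynomial.esymm (Fin n) R ((i : ℕ) + 1)) := by
      have : MvPolynomial.esymm (Fin n) R ((i : ℕ) + 1) - MvPolynomial.C (a i) ∈ RingHom.ker ψ := by
        rw [hker]; exact Ideal.subset_span ⟨i, rfl⟩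
      rw [RingHom.mem_ker, map_sub, MvPolynomial.algHom_C, sub_eq_zero] at this
      exact this.symm
    show σ (e (MvPolynomial.X i)) = algebraMap R A (a i)
    rw [h2, show e (MvPolynomial.X i) = MvPolynomial.esymm (Fin n) ℤ ((i : ℕ) + 1) from MvPolynomial.aeval_X _ i]
    simp [σ, MvPolynomial.esymm, map_sum, map_prod]
  have hσφ : ∀ x, σ (φ x) = x := by
    intro x
    obtain ⟨x, rfl⟩ := hψ x
    rw [hφψ]
    have : σ.comp θ = ψ.toRingHom := by
      refine MvPolynomial.ringHom_ext (fun r => ?_) fun i => by simp [σ, θ]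
      show σ (θ (MvPolynomial.C r)) = ψ (MvPolynomial.C r)
      rw [MvPolynomial.algHom_C, ← hσe]; simp [θ]
    exact RingHom.congr_fun this x
  have hφσ : ∀ x, φ (σ x) = x := by
    intro x
    have : φ.comp σ = RingHom.id _ := by
      refine MvPolynomial.ringHom_ext (fun r => by simp) fun i => ?_
      show φ (σ (MvPolynomial.X i)) = MvPolynomial.X i
      rw [show σ (MvPolynomial.X i) = ψ (MvPolynomial.X i) by simp [σ], hφψ]; simp [θ]
    exact RingHom.congr_fun this x
  have hkey : (fun p : Stair n → R => ∑ d, e (p d) * ∏ i : Fin n, MvPolynomial.X i ^ ((d i : ℕ))) =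
      φ ∘ b.equivFun.symm := by
    funext p
    rw [Function.comp_apply, b.equivFun_symm_apply, map_sum]
    refine Finset.sum_congr rfl fun d _ => ?_
    rw [← hb, Algebra.smul_def, ← MvPolynomial.algHom_C ψ, ← map_mul, hφψ]
    simp [θ]
  change Function.Bijective (fun p : Stair n → R => ∑ d, e (p d) * ∏ i : Fin n, MvPolynomial.X i ^ ((d i : ℕ)))
  rw [hkey]
  exact (Function.bijective_iff_has_inverse.2 ⟨σ, hσφ, hφσ⟩).comp b.equivFun.symm.bijective

end Groth.Agent.SymBasisLib
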